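import Cfsg.Agent.Lib.Maximal.SymplFour.Basic

/-! A large group of commuting involutions in `Ω⁺₆(q)` is the sign group of a frame. -/

set_option autoImplicit false
set_option linter.unusedSectionVars false

open scoped Classical

namespace CfsgLib.Maximal.SymplFour

open QuadraticMap CfsgLib.Geometry CfsgLib.Classical Matrix

variable {F : Type*} [Field F]

local notation "SL4" => Matrix.SpecialLinearGroup (Fin 4) F
local notation "GL4" => Matrix.GeneralLinearGroup (Fin 4) F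
local notation "M4" => Matrix (Fin 4) (Fin 4) F
local notation "V6" => (Fin 3 ⊕ Fin 3 → F)
local notation "Q6" => matQuad (plusMat 3 F)

variable [Fintype F]

set_option maxHeartbeats 1000000 in
/-- Thirty-two commuting involutions in `Ω₆` diagonalise on a frame of isometric lines. -/
theorem six_basis (h2 : (2 : F) ≠ 0) {R : Type*} [Group R] [Finite R] (h64 : 64 ≤ Nat.card R)
    (ψ : R →* orth (matQuad (plusMat 3 F))) (z : R) (hfib : ∀ r s : R, ψ r = ψ s → s = r ∨ s = z * r)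
    (hψinv : ∀ r : R, ψ r * ψ r = 1) (hψcomm : ∀ r s : R, ψ r * ψ s = ψ s * ψ r)
    (hψrange : ∀ r, ψ r ∈ commutator (orth (matQuad (plusMat 3 F)))) :
    ∃ (b : Module.Basis (Fin 6) F (Fin 3 ⊕ Fin 3 → F)) (sg : R → Finset (Fin 6)),
      (∀ r i, (ψ r : V6 ≃ₗ[F] V6) (b i) = if i ∈ sg r then -(b i) else b i) ∧
      (∀ r, Even (sg r).card) ∧ (∀ S : Finset (Fin 6), Even S.card → ∃ r, sg r = S) ∧
      (∀ i j, i ≠ j → ∃ r, ¬ (i ∈ sg r ↔ j ∈ sg r)) ∧
      (∀ i j, i ≠ j → polar Q6 (b i) (b j) = 0) ∧ (∀ i, Q6 (b i) ≠ 0) ∧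
      ∀ j, ∃ t : F, t ≠ 0 ∧ Q6 (b j) = t * t * Q6 (b 0) := by
  haveI := Fintype.ofFinite R
  have hspan := span_common (V := V6) h2 (Finset.univ.image fun r => (ψ r : V6 ≃ₗ[F] V6))
    (fun a ha v => by
      obtain ⟨r, -, rfl⟩ := Finset.mem_image.1 ha
      exact LinearEquiv.congr_fun (congrArg Subtype.val (hψinv r)) v)
    (fun a ha b hb v => by
      obtain ⟨r, -, rfl⟩ := Finset.mem_image.1 ha
      obtain ⟨s, -, rfl⟩ := Finset.mem_image.1 hb
      exact LinearEquiv.congr_fun (congrArg Subtype.val (hψcomm r s)) v)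
  obtain ⟨T, hT, hTspan, hTli⟩ := exists_linearIndependent F
    {v : V6 | ∀ a ∈ Finset.univ.image (fun r => (ψ r : V6 ≃ₗ[F] V6)), a v = v ∨ a v = -v}
  rw [hspan] at hTspan
  let b₀ := Module.Basis.mk hTli (by rw [Subtype.range_coe, hTspan])
  haveI : Fintype T := hTli.setFinite.fintype
  let b : Module.Basis (Fin 6) F V6 := b₀.reindex ((Fintype.equivFinOfCardEq (by
    rw [← Module.finrank_eq_card_basis b₀]; simp)))
  have hbv : ∀ i, ∀ r : R, (ψ r : V6 ≃ₗ[F] V6) (b i) = b i ∨ (ψ r : V6 ≃ₗ[F] V6) (b i) = -(b i) := fun i r => by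
    have : b i ∈ T := by simp [b, b₀]
    exact hT this _ (Finset.mem_image_of_mem _ (Finset.mem_univ r))
  let sg : R → Finset (Fin 6) := fun r => Finset.univ.filter fun i => (ψ r : V6 ≃ₗ[F] V6) (b i) ≠ b i
  have hsg : ∀ r i, (ψ r : V6 ≃ₗ[F] V6) (b i) = if i ∈ sg r then -(b i) else b i := fun r i => by
    by_cases h : (ψ r : V6 ≃ₗ[F] V6) (b i) = b i
    · rw [if_neg (by simp [sg, h]), h]
    · rw [if_pos (by simp [sg, h])]; exact (hbv i r).resolve_left h
  have hsg_ext : ∀ r s, sg r = sg s → ψ r = ψ s := fun r s h =>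
    Subtype.ext (LinearEquiv.toLinearMap_injective (b.ext fun i => by
      show (ψ r : V6 ≃ₗ[F] V6) (b i) = (ψ s : V6 ≃ₗ[F] V6) (b i); rw [hsg, hsg, h]))
  have hcount : ∀ 𝒮 : Finset (Finset (Fin 6)), (∀ r, sg r ∈ 𝒮) → Nat.card R ≤ 2 * 𝒮.card := by
    intro 𝒮 h𝒮
    rw [Nat.card_eq_fintype_card, ← Finset.card_univ,
      Finset.card_eq_sum_card_fiberwise (t := 𝒮) (f := sg) (fun r _ => h𝒮 r), mul_comm, ← smul_eq_mul]
    refine Finset.sum_le_card_nsmul _ _ _ fun S _ => ?_
    rcases (Finset.univ.filter fun r => sg r = S).eq_empty_or_nonempty with h | ⟨r₀, hr₀⟩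
    · rw [h]; simp
    simp only [Finset.mem_filter, Finset.mem_univ, true_and] at hr₀
    refine (Finset.card_le_card (t := {r₀, z * r₀}) fun s hs => ?_).trans Finset.card_le_two
    simp only [Finset.mem_filter, Finset.mem_univ, true_and] at hs
    simpa using hfib r₀ s (hsg_ext _ _ (hr₀.trans hs.symm))
  have hdet6 : ∀ r : R, LinearMap.det ((ψ r : V6 ≃ₗ[F] V6) : V6 →ₗ[F] V6) = (-1) ^ (sg r).card := by
    intro r
    rw [← LinearMap.det_toMatrix b]
    have e : LinearMap.toMatrix b b ((ψ r : V6 ≃ₗ[F] V6) : V6 →ₗ[F] V6) =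
        Matrix.diagonal fun i => if i ∈ sg r then (-1 : F) else 1 := by
      ext i j
      rw [LinearMap.toMatrix_apply, LinearEquiv.coe_coe, hsg]
      by_cases hij : i = j
      · subst hij; rw [Matrix.diagonal_apply_eq]; split_ifs <;> simp
      · rw [Matrix.diagonal_apply_ne _ hij]; split_ifs <;> simp [Ne.symm hij]
    rw [e, Matrix.det_diagonal, Finset.prod_ite_mem, Finset.univ_inter, Finset.prod_const]
  have hQ := nondeg_plus_three (F := F)
  have hdetone : ∀ g ∈ commutator (orth Q6), LinearMap.det ((g : V6 ≃ₗ[F] V6) : V6 →ₗ[F] V6) = 1 := by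
    let d : orth Q6 →* F :=
      { toFun := fun g => LinearMap.det ((g : V6 ≃ₗ[F] V6) : V6 →ₗ[F] V6)
        map_one' := LinearMap.det_id
        map_mul' := fun g h => LinearMap.det_comp _ _ }
    intro g hg
    have hle : commutator (orth Q6) ≤ d.toHomUnits.ker := Abelianization.commutator_subset_ker _
    exact congrArg Units.val (hle hg)
  have heven : ∀ r, Even (sg r).card := fun r => by
    have h := hdetone _ (hψrange r)
    rw [hdet6] at h
    exact (neg_one_pow_eq_one_iff_even (fun h => h2 (by linear_combination -h))).1 h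
  have hsep : ∀ i j, i ≠ j → ∃ r, ¬ (i ∈ sg r ↔ j ∈ sg r) := by
    intro i j hij
    by_contra h
    push Not at h
    have h1 := hcount ((Finset.univ : Finset (Finset (Fin 6))).filter fun S => Even S.card ∧ (i ∈ S ↔ j ∈ S))
      (fun r => by simp only [Finset.mem_filter, Finset.mem_univ, true_and]; exact ⟨heven r, h r⟩)
    have h3 : ∀ i j : Fin 6, i ≠ j →
        ((Finset.univ : Finset (Finset (Fin 6))).filter fun S => Even S.card ∧ (i ∈ S ↔ j ∈ S)).card ≤ 16 := by
      decide +kernel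
    have h5 := h3 i j hij
    omega
  have hall : ∀ S : Finset (Fin 6), Even S.card → ∃ r, sg r = S := by
    intro S hS
    by_contra h
    push Not at h
    have h1 := hcount (((Finset.univ : Finset (Finset (Fin 6))).filter fun T => Even T.card).erase S)
      (fun r => Finset.mem_erase.2 ⟨h r, by simp only [Finset.mem_filter, Finset.mem_univ, true_and]; exact heven r⟩)
    rw [Finset.card_erase_of_mem (by simp [hS]),
      show ((Finset.univ : Finset (Finset (Fin 6))).filter fun T => Even T.card).card = 32 by decide +kernel] at h1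
    omega
  have horth : ∀ i j, i ≠ j → polar Q6 (b i) (b j) = 0 := by
    intro i j hij
    obtain ⟨r, hr⟩ := hsep i j hij
    have h1 := orth_polar (ψ r).2 (b i) (b j)
    rw [hsg, hsg] at h1
    by_cases hi : i ∈ sg r <;> by_cases hj : j ∈ sg r <;> simp [hi, hj, polar_neg_left, polar_neg_right] at hr h1 <;>
      exact (mul_eq_zero.1 (show (2 : F) * polar Q6 (b i) (b j) = 0 by linear_combination -h1)).resolve_left h2
  have hbQ : ∀ i, Q6 (b i) ≠ 0 := by
    intro i h
    refine b.ne_zero i (hQ.1 (b i) fun w => ?_)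
    conv_lhs => rw [← b.sum_repr w]
    rw [map_sum]
    refine Finset.sum_eq_zero fun j _ => ?_
    rw [map_smul, polarBilin_apply_apply]
    by_cases hij : i = j
    · subst hij; rw [polar_self', h, mul_zero, smul_zero]
    · rw [horth i j hij, smul_zero]
  have hclass : ∀ j, ∃ t : F, t ≠ 0 ∧ Q6 (b j) = t * t * Q6 (b 0) := by
    intro j
    by_cases hj : j = 0
    · exact ⟨1, one_ne_zero, by rw [hj]; ring⟩
    obtain ⟨r, hr⟩ := hall {0, j} (by rw [Finset.card_pair (Ne.symm hj)]; exact even_two)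
    obtain ⟨-, s, hs⟩ := flip_invariant h2 hQ b horth hbQ (ψ r) (hψrange r) (sg r) (hsg r)
    rw [hr, Finset.prod_pair (Ne.symm hj)] at hs
    have h0 := hbQ 0
    refine ⟨s / Q6 (b 0), div_ne_zero (fun e => mul_ne_zero h0 (hbQ j) (by rw [hs, e, mul_zero])) h0, ?_⟩
    field_simp
    linear_combination hs
  exact ⟨b, sg, hsg, heven, hall, hsep, horth, hbQ, hclass⟩


variable {W : Type*} [AddCommGroup W] [Module F W] {Q : QuadraticForm F W} {R : Type*} [Group R]
  {ψ : R →* orth Q} {b : Module.Basis (Fin 6) F W} {sg : R → Finset (Fin 6)}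

/-- What conjugates the sign group to itself permutes the frame. -/
theorem perm_of_conj (h2 : (2 : F) ≠ 0)
    (hsg : ∀ r i, (ψ r : W ≃ₗ[F] W) (b i) = if i ∈ sg r then -(b i) else b i)
    (hsep : ∀ i j, i ≠ j → ∃ r, ¬ (i ∈ sg r ↔ j ∈ sg r)) (φ : orth Q)
    (hst : ∀ s, ∃ r, ψ s = φ * ψ r * φ⁻¹) :
    ∃ π : Equiv.Perm (Fin 6), ∀ i, ∃ c : F, (φ : W ≃ₗ[F] W) (b i) = c • b (π i) := by
  have hperm : ∀ i, ∃ j, (φ : W ≃ₗ[F] W) (b i) ∈ Submodule.span F {b j} := by
    intro i
    set u := (φ : W ≃ₗ[F] W) (b i)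
    have hu : ∀ s : R, (ψ s : W ≃ₗ[F] W) u = u ∨ (ψ s : W ≃ₗ[F] W) u = -u := by
      intro s
      obtain ⟨r, hr⟩ := hst s
      rw [hr]
      rw [show ((φ * ψ r * φ⁻¹ : orth Q) : W ≃ₗ[F] W) u = (φ : W ≃ₗ[F] W) (if i ∈ sg r then -(b i) else b i) by
        show (φ : W ≃ₗ[F] W) ((ψ r : W ≃ₗ[F] W) ((φ : W ≃ₗ[F] W).symm u)) = _
        rw [LinearEquiv.symm_apply_apply, hsg r i]]
      split_ifs
      · exact Or.inr (map_neg _ _)
      · exact Or.inl rfl
    have hrep : ∀ s k, b.repr ((ψ s : W ≃ₗ[F] W) u) k = (if k ∈ sg s then -1 else 1) * b.repr u k := by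
      intro s k
      have e : (b.coord k).comp ((ψ s : W ≃ₗ[F] W) : W →ₗ[F] W) = (if k ∈ sg s then (-1 : F) else 1) • b.coord k :=
        b.ext fun l => by
          rw [LinearMap.comp_apply, LinearEquiv.coe_coe, hsg, LinearMap.smul_apply]
          by_cases hlk : l = k
          · subst hlk; split_ifs <;> simp
          · split_ifs <;> simp [Module.Basis.coord_apply, hlk]
      exact LinearMap.congr_fun e u
    obtain ⟨j, hj⟩ : ∃ j, b.repr u j ≠ 0 := by
      by_contra h
      push Not at h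
      exact b.ne_zero i ((φ : W ≃ₗ[F] W).map_eq_zero_iff.1 (b.repr.map_eq_zero_iff.1 (Finsupp.ext h)))
    refine ⟨j, Submodule.mem_span_singleton.2 ⟨b.repr u j, ?_⟩⟩
    have hz : ∀ k, k ≠ j → b.repr u k = 0 := by
      intro k hk
      obtain ⟨s, hs⟩ := hsep k j hk
      by_contra hne
      have e1 := hrep s k
      have e2 := hrep s j
      rcases hu s with h | h <;> rw [h] at e1 e2 <;>
        by_cases hks : k ∈ sg s <;> by_cases hjs : j ∈ sg s <;> simp [hks, hjs, eq_neg_iff_add_eq_zero,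
          neg_eq_iff_add_eq_zero, ← two_mul, h2, hne, hj] at hs e1 e2
    conv_rhs => rw [← b.sum_repr u]
    rw [Finset.sum_eq_single j (fun k _ hk => by rw [hz k hk, zero_smul]) (by simp)]
  choose σ hσ using hperm
  have hσinj : Function.Injective σ := by
    intro i k hik
    by_contra hne
    obtain ⟨c, hc⟩ := Submodule.mem_span_singleton.1 (hσ i)
    obtain ⟨d, hd⟩ := Submodule.mem_span_singleton.1 (hσ k)
    rw [hik] at hc
    have hc0 : c ≠ 0 := fun e => b.ne_zero i ((φ : W ≃ₗ[F] W).map_eq_zero_iff.1 (by rw [← hc, e, zero_smul]))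
    have h1 : (φ : W ≃ₗ[F] W) (b k) = (φ : W ≃ₗ[F] W) ((d * c⁻¹) • b i) := by
      rw [map_smul, ← hc, ← hd, smul_smul, inv_mul_cancel_right₀ hc0]
    have h3 := congrArg (fun w => b.repr w k) ((φ : W ≃ₗ[F] W).injective h1)
    simp [Ne.symm hne, Finsupp.single_eq_of_ne hne] at h3
  refine ⟨Equiv.ofBijective σ (Finite.injective_iff_bijective.1 hσinj), fun i => ?_⟩
  rw [Equiv.ofBijective_apply]
  obtain ⟨c, hc⟩ := Submodule.mem_span_singleton.1 (hσ i)
  exact ⟨c, hc.symm⟩

/-- What permutes the frame conjugates a sign map to the permuted one. -/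
theorem conj_of_perm (hsg : ∀ r i, (ψ r : W ≃ₗ[F] W) (b i) = if i ∈ sg r then -(b i) else b i) (φ : orth Q)
    {π : Equiv.Perm (Fin 6)} (hmove : ∀ i, ∃ c : F, (φ : W ≃ₗ[F] W) (b i) = c • b (π i)) {r s : R}
    (hs : sg s = (sg r).image π) : ψ s = φ * ψ r * φ⁻¹ := by
  refine eq_mul_inv_iff_mul_eq.2 (Subtype.ext (LinearEquiv.toLinearMap_injective (b.ext fun i => ?_)))
  obtain ⟨c, hc⟩ := hmove i
  show (ψ s : W ≃ₗ[F] W) ((φ : W ≃ₗ[F] W) (b i)) = (φ : W ≃ₗ[F] W) ((ψ r : W ≃ₗ[F] W) (b i))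
  rw [hc, map_smul, hsg, hsg, hs]
  by_cases hi : i ∈ sg r
  · rw [if_pos (Finset.mem_image_of_mem _ hi), if_pos hi, map_neg, hc, smul_neg]
  · rw [if_neg (fun h => hi (by
      obtain ⟨k, hk, hk'⟩ := Finset.mem_image.1 h
      rwa [← π.injective hk'])), if_neg hi, hc]

end CfsgLib.Maximal.SymplFour
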