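import Cfsg.Agent.Lib.Classical.OmegaSixPlus
import Cfsg.Agent.Lib.Sp4Odd.Clifford
import Cfsg.Agent.Lib.Geometry.GeoOmega

/-!
The Klein homomorphism onto `Ω⁺₆(q)`, and commuting involutions in an orthogonal group of a six-space.
-/

set_option autoImplicit false
set_option linter.unusedSectionVars false

open scoped Classical

namespace CfsgLib.Maximal.SymplFour

open QuadraticMap CfsgLib.Geometry CfsgLib.Classical Matrix

variable {F : Type*} [Field F]

local notation "SL4" => Matrix.SpecialLinearGroup (Fin 4) F
local notation "GL4" => Matrix.GeneralLinearGroup (Fin 4) F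
local notation "M4" => Matrix (Fin 4) (Fin 4) F
local notation "V6" => (Fin 3 ⊕ Fin 3 → F)
local notation "Q6" => matQuad (plusMat 3 F)

/-- The Klein homomorphism. -/
noncomputable def toO6 : Matrix.SpecialLinearGroup (Fin 4) F →* orth (matQuad (plusMat 3 F)) :=
  (klein_embeddedAct (F := F)).toOrth

theorem range_toO6 [Finite F] (h2 : (2 : F) ≠ 0) : (toO6 (F := F)).range = commutator (orth Q6) := by
  have hR := reflGroup_eq_orth (nondeg_plus_three (F := F)) (Or.inl (by simp))
  have hp : commutator SL4 = ⊤ := SL_fin_commutator_eq_top 4 (by norm_num) (by norm_num)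
  haveI : Finite (orth Q6) := Finite.of_equiv _ (isomEquiv Q6).toEquiv
  refine Subgroup.eq_of_le_of_card_ge (range_le_commutator_of_perfect _ hp) ?_
  set f := toO6 (F := F)
  have h1 : Nat.card SL4 = Nat.card f.range * Nat.card f.ker := by
    rw [Subgroup.card_eq_card_quotient_mul_card_subgroup f.ker,
      Nat.card_congr (QuotientGroup.quotientKerEquivRange f).toEquiv]
  have hker : Nat.card f.ker ≤ Nat.gcd 2 (Nat.card F - 1) :=
    Klein.card_le_gcd_two (0 : Fin 4) (fun g : SL4 => g.1) Subtype.val_injective _ fun g hg => klein_ker hg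
  have hcard : Nat.gcd 2 (Nat.card F - 1) * Nat.card (orth Q6) ≤
      Nat.card SL4 * (commutator (orth Q6)).index := by
    rw [card_orth_eq, coe_matQuad_plus, card_isometry_plus (F := F) 2, card_SL_fin',
      index_commutator_orth nondeg_plus_three (by simp) hR]
    simp [Finset.prod_range_succ, Finset.prod_Icc_succ_top, Nat.choose_two_right]
    exact le_of_eq (by ring)
  have hci := (commutator (orth Q6)).card_mul_index
  have hk : 0 < Nat.card f.ker := Nat.card_pos
  have hi : 0 < (commutator (orth Q6)).index := Nat.pos_of_ne_zero Subgroup.index_ne_zero_of_finite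
  have h4 : Nat.card f.ker * (Nat.card (commutator (orth Q6)) * (commutator (orth Q6)).index) ≤
      (Nat.card f.range * Nat.card f.ker) * (commutator (orth Q6)).index := by
    rw [hci, ← h1]
    exact (Nat.mul_le_mul_right _ hker).trans hcard
  rw [← mul_assoc] at h4
  exact Nat.le_of_mul_le_mul_left (by
    have := Nat.le_of_mul_le_mul_right h4 hi
    rwa [mul_comm (Nat.card f.range)] at this) hk

/-- The characteristic polynomials of a square root of a scalar and of its negative. -/
theorem charpoly_mul_neg {ι : Type*} [Fintype ι] [DecidableEq ι] {r : Matrix ι ι F} {c : F}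
    (hc : r * r = c • (1 : Matrix ι ι F)) :
    r.charpoly * (-r).charpoly = (Polynomial.X ^ 2 - Polynomial.C c) ^ Fintype.card ι := by
  have hcomm : Commute (Matrix.scalar ι (Polynomial.X : Polynomial F)) ((Polynomial.C : F →+* Polynomial F).mapMatrix r) :=
    Matrix.scalar_commute _ (fun r' => Commute.all _ _) _
  have h : r.charmatrix * (-r).charmatrix = Matrix.scalar ι (Polynomial.X ^ 2 - Polynomial.C c) := by
    unfold Matrix.charmatrix
    rw [map_neg, sub_neg_eq_add, mul_add, sub_mul, sub_mul, hcomm.eq, sub_add_sub_cancel, ← map_mul, ← map_mul, hc,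
      map_sub, ← pow_two]
    congr 1
    ext i j
    by_cases h : i = j
    · subst h; simp
    · simp [h]
  rw [Matrix.charpoly, Matrix.charpoly, ← Matrix.det_mul, h, Matrix.scalar_apply, Matrix.det_diagonal,
    Finset.prod_const, Finset.card_univ]

/-- A square root of a scalar conjugate to its negative has determinant the square of that scalar. -/
theorem det_of_anticomm (h2 : (2 : F) ≠ 0) {r : M4} {c : F} {y : GL4} (hc : r * r = c • (1 : M4))
    (hy : (y : M4) * r = -(r * (y : M4))) : r.det = c * c := by
  have hconj : (y : M4) * r * ((y⁻¹ : GL4) : M4) = -r := by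
    rw [hy, neg_mul, mul_assoc, ← Units.val_mul, mul_inv_cancel, Units.val_one, mul_one]
  have hchar : (-r).charpoly = r.charpoly := by
    rw [← hconj, Matrix.charpoly_mul_comm, ← mul_assoc, ← Units.val_mul, inv_mul_cancel, Units.val_one, one_mul]
  have hdet := charpoly_mul_neg (ι := Fin 4) hc
  have hPm : (Polynomial.X ^ 2 - Polynomial.C c : Polynomial F).Monic := Polynomial.monic_X_pow_sub_C c (by norm_num)
  have hm := (Matrix.charpoly_monic r).leadingCoeff
  have hr : r.charpoly = (Polynomial.X ^ 2 - Polynomial.C c) ^ 2 := by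
    generalize (Polynomial.X ^ 2 - Polynomial.C c : Polynomial F) = P at hdet hPm ⊢
    generalize (-r).charpoly = χ' at hdet hchar
    generalize r.charpoly = χ at hdet hchar hm ⊢
    rw [hchar, show Fintype.card (Fin 4) = 4 from Fintype.card_fin 4] at hdet
    rcases sq_eq_sq_iff_eq_or_eq_neg.1 (show χ ^ 2 = (P ^ 2) ^ 2 by rw [pow_two, hdet]; ring) with h | h
    · exact h
    · exfalso
      rw [h, Polynomial.leadingCoeff_neg, (hPm.pow 2).leadingCoeff] at hm
      exact h2 (by linear_combination -hm)
  rw [Matrix.det_eq_sign_charpoly_coeff, hr, Fintype.card_fin, Polynomial.coeff_zero_eq_eval_zero]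
  simp
  ring

/-- Commuting involutions have common eigenvectors spanning everything. -/
theorem span_common {V : Type*} [AddCommGroup V] [Module F V] (h2 : (2 : F) ≠ 0) (S : Finset (V ≃ₗ[F] V))
    (hinv : ∀ a ∈ S, ∀ v, a (a v) = v) (hcomm : ∀ a ∈ S, ∀ b ∈ S, ∀ v, a (b v) = b (a v)) :
    Submodule.span F {v : V | ∀ a ∈ S, a v = v ∨ a v = -v} = ⊤ := by
  induction S using Finset.induction_on with
  | empty =>
    have e : {v : V | ∀ a ∈ (∅ : Finset (V ≃ₗ[F] V)), a v = v ∨ a v = -v} = Set.univ :=
      Set.eq_univ_of_forall fun v a ha => by simp at ha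
    rw [e, Submodule.span_univ]
  | insert a S ha ih =>
    have h0 := ih (fun b hb => hinv b (Finset.mem_insert_of_mem hb))
      (fun b hb c hc => hcomm b (Finset.mem_insert_of_mem hb) c (Finset.mem_insert_of_mem hc))
    rw [eq_top_iff, ← h0, Submodule.span_le]
    intro v hv
    have hav : ∀ ε : F, ε * ε = 1 → v + ε • a v ∈ {v : V | ∀ b ∈ insert a S, b v = v ∨ b v = -v} := by
      intro ε hε b hb
      rcases Finset.mem_insert.1 hb with rfl | hb'
      · rw [map_add, map_smul, hinv b (Finset.mem_insert_self _ _)]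
        rcases mul_self_eq_one_iff.1 hε with rfl | rfl
        · exact Or.inl (by module)
        · exact Or.inr (by module)
      · rw [map_add, map_smul, hcomm b hb a (Finset.mem_insert_self _ _)]
        rcases hv b hb' with h | h
        · exact Or.inl (by rw [h])
        · exact Or.inr (by rw [h, map_neg]; module)
    have e : v = (2 : F)⁻¹ • ((v + (1 : F) • a v) + (v + (-1 : F) • a v)) := by
      rw [show (v + (1 : F) • a v) + (v + (-1 : F) • a v) = (2 : F) • v by module, smul_smul, inv_mul_cancel₀ h2,
        one_smul]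
    rw [e]
    exact Submodule.smul_mem _ _ (add_mem (Submodule.subset_span (hav 1 (one_mul 1)))
      (Submodule.subset_span (hav (-1) (by ring))))

/-- An element of `Ω` negating some vectors of an orthogonal basis negates evenly many, of square norm product. -/
theorem flip_invariant {V : Type*} [AddCommGroup V] [Module F V] [FiniteDimensional F V] {Q : QuadraticForm F V}
    [Finite F] (h2 : (2 : F) ≠ 0) (hQ : (polarBilin Q).Nondegenerate) (b : Module.Basis (Fin 6) F V)
    (horth : ∀ i j, i ≠ j → polar Q (b i) (b j) = 0) (hb : ∀ i, Q (b i) ≠ 0) (g : orth Q) (hg : g ∈ commutator (orth Q))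
    (S : Finset (Fin 6)) (hS : ∀ i, (g : V ≃ₗ[F] V) (b i) = if i ∈ S then -(b i) else b i) :
    (S.card : ZMod 2) = 0 ∧ IsSquare (∏ i ∈ S, Q (b i)) := by
  have hR := reflGroup_eq_orth_of_two_ne hQ h2
  haveI : Finite V := Module.finite_of_finite F
  have key : ∀ T : Finset (Fin 6), ∃ (x : orth Q) (h0 : ∏ i ∈ T, Q (b i) ≠ 0),
      (∀ i, (x : V ≃ₗ[F] V) (b i) = if i ∈ T then -(b i) else b i) ∧
      orthInvariant hQ hR x = (sqMk h0, Multiplicative.ofAdd (T.card : ZMod 2)) := by
    intro T
    induction T using Finset.induction_on with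
    | empty =>
      refine ⟨1, by simp, fun i => by simp, ?_⟩
      rw [map_one]
      refine Prod.ext ?_ rfl
      exact ((sqMk_eq_one_iff _).2 (by simp)).symm
    | @insert a T ha ih =>
      obtain ⟨x, h0, hx, hi⟩ := ih
      refine ⟨x * oRefl Q (b a) (hb a), by rw [Finset.prod_insert ha]; exact mul_ne_zero (hb a) h0, fun i => ?_, ?_⟩
      · show (x : V ≃ₗ[F] V) (refl Q (b a) (hb a) (b i)) = _
        by_cases hia : i = a
        · subst hia; rw [refl_self, map_neg, hx, if_neg ha, if_pos (Finset.mem_insert_self _ _)]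
        · rw [refl_eq_self Q _ _ (horth i a hia), hx]
          simp [hia]
      · rw [map_mul, hi, orthInvariant_oRefl hQ hR (hb a), Prod.mk_mul_mk]
        refine Prod.ext ?_ ?_
        · show sqMk h0 * sqMk (hb a) = sqMk _
          rw [mul_comm, ← sqMk_mul]
          congr 1
          rw [Finset.prod_insert ha]
        · show Multiplicative.ofAdd (T.card : ZMod 2) * Multiplicative.ofAdd 1 = Multiplicative.ofAdd _
          rw [← ofAdd_add, Finset.card_insert_of_notMem ha, Nat.cast_add, Nat.cast_one]
  obtain ⟨x, h0, hx, hi⟩ := key S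
  have e : g = x := Subtype.ext (LinearEquiv.toLinearMap_injective (b.ext fun i => by
    show (g : V ≃ₗ[F] V) (b i) = (x : V ≃ₗ[F] V) (b i); rw [hS, hx]))
  rw [e, mem_commutator_orth_iff hQ hR, hi, Prod.mk_eq_one] at hg
  exact ⟨by simpa using hg.2, (sqMk_eq_one_iff _).1 hg.1⟩

end CfsgLib.Maximal.SymplFour
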