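import Cfsg.Agent.Lib.Maximal.SymplFour.Basic
import Cfsg.Agent.Lib.Techniques.SymplecticNeighbour
import Cfsg.Prelude.Def_GeometricClasses

/-! What the data of a symplectic-type group of order `64` in `GL₄(p)` give. -/

set_option autoImplicit false
set_option linter.unusedSectionVars false

open scoped Classical commutatorElement

namespace CfsgLib.Maximal.SymplFour

open QuadraticMap CfsgLib.Geometry CfsgLib.Classical Matrix

variable {F : Type*} [Field F]

local notation "SL4" => Matrix.SpecialLinearGroup (Fin 4) F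
local notation "GL4" => Matrix.GeneralLinearGroup (Fin 4) F
local notation "M4" => Matrix (Fin 4) (Fin 4) F
local notation "V6" => (Fin 3 ⊕ Fin 3 → F)
local notation "Q6" => matQuad (plusMat 3 F)

variable [Fintype F]

/-- The facts used. -/
structure Facts (R : Subgroup (Matrix.GeneralLinearGroup (Fin 4) F)) (z : R) : Prop where
  neg : ((z : GL4) : M4) = -1
  scal : ∀ c : F, c ^ 4 = 1 → ∃ w : R, ((w : GL4) : M4) = c • (1 : M4)
  sign : ∀ r s : R, ((r : GL4) : M4) * ((s : GL4) : M4) = ((s : GL4) : M4) * ((r : GL4) : M4) ∨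
    ((r : GL4) : M4) * ((s : GL4) : M4) = -(((s : GL4) : M4) * ((r : GL4) : M4))
  sq : ∀ r : R, ∃ c : F, c * c = 1 ∧ ((r : GL4) : M4) * ((r : GL4) : M4) = c • (1 : M4)
  det : ∀ r : R, ((r : GL4) : M4).det = 1
  card : 64 ≤ Nat.card R

/-- The data give the facts. -/
theorem facts {R : Subgroup (Matrix.GeneralLinearGroup (Fin 4) F)} (h2 : (2 : F) ≠ 0)
    {ι : F} (hι : ι * ι = -1) (hR : Cfsg.Geo.IsLinearSymplecticTypeData 2 R) : ∃ z : R, Facts R z := by
  haveI : Finite GL4 := Finite.of_injective (fun g : GL4 => (g : M4)) fun a b h => Units.ext h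
  haveI := Fintype.ofFinite R
  obtain ⟨hS, hirr, p, e, -, -, hcases⟩ := hR
  obtain ⟨hZ4, m, hRcard⟩ : Nat.card (Subgroup.center R) = 4 ∧ ∃ m, Nat.card R = 2 ^ (2 + 2 * m) := by
    rcases hcases with ⟨h, -⟩ | ⟨-, -, hz, -, hm⟩ | ⟨-, -, h, -⟩
    · exact absurd h (by decide)
    · exact ⟨hz, hm⟩
    · simp at h
  set M : R → M4 := fun r => ((r : GL4) : M4) with hM
  have hMinj : Function.Injective M := fun a b h => Subtype.ext (Units.ext h)
  have hMmul : ∀ a b, M (a * b) = M a * M b := fun a b => rfl
  have hM1 : M 1 = 1 := rfl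
  -- the centre is the fourth roots of unity
  have hcomm_all : ∀ A : M4, (∀ s : R, A * M s = M s * A) → ∃ c : F, A = c • (1 : M4) := fun A h =>
    hirr.2 A (by rintro _ ⟨g, hg, rfl⟩; exact h ⟨g, hg⟩)
  have hexp : ∀ t : R, t ^ 4 = 1 := fun t => by
    have := Monoid.pow_exponent_eq_one t
    rwa [hS.exponent_eq, show Nat.gcd 2 2 = 2 by rfl] at this
  have hcenter : ∀ r : R, r ∈ Subgroup.center R → ∃ c : F, c ^ 4 = 1 ∧ M r = c • (1 : M4) := fun r hr => by
    obtain ⟨c, hc⟩ := hcomm_all (M r) fun s => by rw [← hMmul, ← hMmul, Subgroup.mem_center_iff.1 hr s]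
    refine ⟨c, ?_, hc⟩
    have h1 : M (r ^ 4) = 1 := by rw [hexp, hM1]
    rw [show r ^ 4 = r * r * (r * r) by simp [pow_succ, mul_assoc], hMmul, hMmul, hc] at h1
    have := congrFun (congrFun h1 0) 0
    simp at this
    linear_combination this
  have hscal : ∀ c : F, c ^ 4 = 1 → ∃ z : R, z ∈ Subgroup.center R ∧ M z = c • (1 : M4) := by
    intro c hc
    choose cf hcf hcM using fun z : Subgroup.center R => hcenter z z.2
    have hinj : Function.Injective cf := fun a b h => Subtype.ext (hMinj (by rw [hcM a, hcM b, h]))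
    by_contra hno
    push Not at hno
    let roots := (Polynomial.X ^ 4 - 1 : Polynomial F).roots.toFinset
    have hmem : ∀ x : F, x ^ 4 = 1 → x ∈ roots := fun x hx => by
      simp only [roots, Multiset.mem_toFinset, Polynomial.mem_roots']
      exact ⟨(Polynomial.monic_X_pow_sub_C (1 : F) (by norm_num : (4 : ℕ) ≠ 0)).ne_zero, by simp [hx]⟩
    have hle : roots.card ≤ 4 := (Multiset.toFinset_card_le _).trans
      ((Polynomial.card_roots' _).trans (by
        rw [show (1 : Polynomial F) = Polynomial.C 1 by simp, Polynomial.natDegree_X_pow_sub_C]))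
    haveI := Fintype.ofFinite (Subgroup.center R)
    have hsub : Finset.univ.image cf ⊆ roots.erase c := fun x hx => by
      obtain ⟨z, -, rfl⟩ := Finset.mem_image.1 hx
      exact Finset.mem_erase.2 ⟨fun h => hno z z.2 (by rw [hcM z, h]), hmem _ (hcf z)⟩
    have h1 := Finset.card_le_card hsub
    rw [Finset.card_image_of_injective _ hinj, Finset.card_univ, ← Nat.card_eq_fintype_card, hZ4,
      Finset.card_erase_of_mem (hmem c hc)] at h1
    omega
  obtain ⟨z, hzc, hz⟩ := hscal (-1) (by ring)
  have hsign : ∀ r s : R, M r * M s = M s * M r ∨ M r * M s = -(M s * M r) := by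
    intro r s
    have hT : Cfsg.IsOfSymplecticType R := ⟨hS.pGroup, hS.cyclic_of_characteristic⟩
    have hcc := CfsgLib.Techniques.SymplecticNeighbour.commutator_central hT hexp r s
    obtain ⟨c, hc4, hc⟩ := hcenter _ hcc.1
    have e : M r * M s = c • (M s * M r) := by
      rw [← one_mul (M s * M r), ← smul_mul_assoc, ← hc, ← hMmul, ← hMmul, ← hMmul, commutatorElement_def]
      congr 1; group
    have h1 : M ⁅r, s⁆ * M ⁅r, s⁆ = 1 := by rw [← hMmul, hcc.2, hM1]
    rw [hc] at h1
    have := congrFun (congrFun h1 0) 0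
    simp at this
    rcases mul_self_eq_one_iff.1 this with rfl | rfl
    · exact Or.inl (by rw [e, one_smul])
    · exact Or.inr (by rw [e, neg_one_smul])
  have hsq : ∀ r : R, ∃ c : F, c * c = 1 ∧ M r * M r = c • (1 : M4) := by
    intro r
    obtain ⟨c, -, hc⟩ := hcenter (r * r) (Subgroup.mem_center_iff.2 fun s => hMinj (by
      simp only [hMmul]
      rcases hsign r s with h | h
      · rw [← mul_assoc, ← h, mul_assoc, ← h, ← mul_assoc]
      · refine (?_ : M r * M r * M s = M s * (M r * M r)).symm
        rw [mul_assoc, h, mul_neg, ← mul_assoc, h, neg_mul, neg_neg, mul_assoc]))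
    rw [hMmul] at hc
    refine ⟨c, ?_, hc⟩
    have h1 : M (r ^ 4) = 1 := by rw [hexp, hM1]
    rw [show r ^ 4 = r * r * (r * r) by simp [pow_succ, mul_assoc], hMmul, hMmul, hc] at h1
    have := congrFun (congrFun h1 0) 0
    simp at this
    linear_combination this
  have hanti : ∀ r : R, r ∉ Subgroup.center R → ∃ y : R, M y * M r = -(M r * M y) := by
    intro r hr
    by_contra hcon
    push Not at hcon
    exact hr (Subgroup.mem_center_iff.2 fun s => hMinj (by
      rw [hMmul, hMmul]; exact (hsign s r).resolve_right (hcon s)))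
  have hdet : ∀ r : R, (M r).det = 1 := by
    intro r
    by_cases hr : r ∈ Subgroup.center R
    · obtain ⟨c, hc4, hc⟩ := hcenter r hr
      rw [hc, Matrix.det_smul, Matrix.det_one, mul_one, Fintype.card_fin, hc4]
    · obtain ⟨c, hc, hrr⟩ := hsq r
      obtain ⟨y, hy⟩ := hanti r hr
      rw [det_of_anticomm h2 hrr (y := (y : GL4)) hy, hc]
  -- at least sixty-four elements
  have hm2 : 2 ≤ m := by
    by_contra hm
    obtain ⟨W, hW0, hW1, hW⟩ : ∃ W : Submodule F (Fin 4 → F), W ≠ ⊥ ∧ W ≠ ⊤ ∧ ∀ r : R, ∀ w ∈ W, M r *ᵥ w ∈ W := by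
      by_cases hab : ∀ r : R, r ∈ Subgroup.center R
      · refine ⟨Submodule.span F {Pi.single 0 1}, by simp, fun h => ?_, fun r w hw => ?_⟩
        · have := congrArg (fun W : Submodule F (Fin 4 → F) => Module.finrank F W) h
          simp only [finrank_span_singleton (show (Pi.single 0 1 : Fin 4 → F) ≠ 0 by simp), finrank_top,
            Module.finrank_pi, Fintype.card_fin] at this
          omega
        · obtain ⟨c, -, hc⟩ := hcenter r (hab r)
          rw [hc, Matrix.smul_mulVec, Matrix.one_mulVec]
          exact Submodule.smul_mem _ _ hw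
      push Not at hab
      obtain ⟨x, hx⟩ := hab
      obtain ⟨y, hy⟩ := hanti x hx
      obtain ⟨c, hc, hxx⟩ := hsq x
      obtain ⟨d, -, hyy⟩ := hsq y
      obtain ⟨s, hs⟩ : ∃ s : F, s * s = c := by
        rcases mul_self_eq_one_iff.1 hc with rfl | rfl
        · exact ⟨1, one_mul 1⟩
        · exact ⟨ι, hι⟩
      obtain ⟨v, hv0, hv⟩ : ∃ v : Fin 4 → F, v ≠ 0 ∧ M x *ᵥ v = s • v := by
        by_contra hno
        push Not at hno
        refine hx (Subgroup.mem_center_iff.2 fun g => hMinj ?_)
        have hk : ∀ u, M x *ᵥ u = (-s) • u := fun u => by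
          by_contra hu
          refine hno (M x *ᵥ u + s • u) (fun h => hu (by rw [neg_smul]; exact eq_neg_of_add_eq_zero_left h)) ?_
          rw [Matrix.mulVec_add, Matrix.mulVec_smul, Matrix.mulVec_mulVec, hxx, Matrix.smul_mulVec,
            Matrix.one_mulVec, smul_add, smul_smul, hs, add_comm]
        have hx' : M x = (-s) • (1 : M4) := Matrix.toLin'.injective (LinearMap.ext fun u => by
          simp [Matrix.toLin'_apply, hk u, Matrix.smul_mulVec])
        rw [hMmul, hMmul, hx']; simp
      let W : Submodule F (Fin 4 → F) := Submodule.span F {v, M y *ᵥ v}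
      have hvW : v ∈ W := Submodule.subset_span (by simp)
      have hyW : M y *ᵥ v ∈ W := Submodule.subset_span (by simp)
      refine ⟨W, fun h => hv0 (by rw [h] at hvW; exact (Submodule.mem_bot F).1 hvW), fun h => ?_, ?_⟩
      · have h1 := finrank_span_le_card (R := F) ({v, M y *ᵥ v} : Set (Fin 4 → F))
        have h3 : Module.finrank F W = 4 := by rw [h, finrank_top, Module.finrank_pi, Fintype.card_fin]
        have h5 : ({v, M y *ᵥ v} : Set (Fin 4 → F)).toFinset.card ≤ 2 := by
          rw [Set.toFinset_insert, Set.toFinset_singleton]; exact Finset.card_le_two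
        change Module.finrank F W ≤ _ at h1
        omega
      · let H : Subgroup R :=
          { carrier := {r | ∀ w ∈ W, M r *ᵥ w ∈ W}
            one_mem' := fun w hw => by rwa [hM1, Matrix.one_mulVec]
            mul_mem' := fun {a b} ha hb w hw => by
              rw [hMmul, ← Matrix.mulVec_mulVec]; exact ha _ (hb w hw)
            inv_mem' := fun {a} ha w hw => by
              rw [show a⁻¹ = a * a * a from inv_eq_of_mul_eq_one_left (by
                rw [← hexp a]; simp [pow_succ, mul_assoc]), hMmul, hMmul, ← Matrix.mulVec_mulVec, ← Matrix.mulVec_mulVec]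
              exact ha _ (ha _ (ha w hw)) }
        have hgen : ∀ r : R, (M r *ᵥ v ∈ W ∧ M r *ᵥ (M y *ᵥ v) ∈ W) → r ∈ H := fun r h w hw => by
          refine Submodule.span_induction (p := fun w _ => M r *ᵥ w ∈ W) ?_ ?_ ?_ ?_ hw
          · rintro _ (rfl | rfl); exacts [h.1, h.2]
          · simp
          · intro a b _ _ ha hb; rw [Matrix.mulVec_add]; exact add_mem ha hb
          · intro t a _ ha; rw [Matrix.mulVec_smul]; exact Submodule.smul_mem _ _ ha
        have hxH : x ∈ H := hgen x ⟨by rw [hv]; exact Submodule.smul_mem _ _ hvW, by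
          rw [Matrix.mulVec_mulVec, show M x * M y = -(M y * M x) by rw [hy, neg_neg], Matrix.neg_mulVec,
            ← Matrix.mulVec_mulVec, hv, Matrix.mulVec_smul]
          exact neg_mem (Submodule.smul_mem _ _ hyW)⟩
        have hyH : y ∈ H := hgen y ⟨hyW, by
          rw [Matrix.mulVec_mulVec, hyy, Matrix.smul_mulVec, Matrix.one_mulVec]
          exact Submodule.smul_mem _ _ hvW⟩
        have hZH : Subgroup.center R ≤ H := fun r hr w hw => by
          obtain ⟨c', -, hc'⟩ := hcenter r hr
          rw [hc', Matrix.smul_mulVec, Matrix.one_mulVec]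
          exact Submodule.smul_mem _ _ hw
        -- the centre and two of its cosets fill more than half of the group
        let f : Fin 3 × Subgroup.center R → H := fun a =>
          ⟨![1, x, y] a.1 * a.2.1, mul_mem (by
            obtain ⟨i, -⟩ := a; fin_cases i <;> first | exact one_mem H | exact hxH | exact hyH) (hZH a.2.2)⟩
        have hf : Function.Injective f := by
          rintro ⟨i, a⟩ ⟨j, b⟩ h
          have h' : (![1, x, y] i : R) * a.1 = ![1, x, y] j * b.1 := congrArg Subtype.val h
          have hq : ((![1, x, y] j : R))⁻¹ * ![1, x, y] i ∈ Subgroup.center R := by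
            have : (![1, x, y] j : R)⁻¹ * ![1, x, y] i = b.1 * a.1⁻¹ := by
              rw [eq_mul_inv_iff_mul_eq, mul_assoc, h', inv_mul_cancel_left]
            rw [this]; exact mul_mem b.2 (inv_mem a.2)
          have hne : ∀ u w : R, u⁻¹ * w ∈ Subgroup.center R → (∀ g : R, M w * M g = M g * M w ↔ M u * M g = M g * M u) := by
            intro u w hc g
            obtain ⟨k, -, hk⟩ := hcenter _ hc
            have hw : M w = k • M u := by
              rw [show w = u * (u⁻¹ * w) by group, hMmul, hk, mul_smul_comm, mul_one]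
            have hk0 : k ≠ 0 := fun e => by
              rw [e, zero_smul] at hw
              exact Units.ne_zero (w : GL4) hw
            rw [hw, smul_mul_assoc, mul_smul_comm]
            exact ⟨fun e => smul_right_injective M4 hk0 e, fun e => by rw [e]⟩
          have hxy : ¬ M x * M y = M y * M x := fun e => by
            rw [e] at hy
            have h8 : (2 : F) • (M y * M x) = 0 := by rw [two_smul]; exact add_eq_zero_iff_eq_neg.2 hy
            rw [← hMmul] at h8
            exact Units.ne_zero ((y * x : R) : GL4) ((smul_eq_zero.1 h8).resolve_left h2)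
          have hij : i = j := by
            have t := hne _ _ hq
            fin_cases i <;> fin_cases j <;> first
              | rfl
              | exact absurd ((t x).2 (by simp [hM1])) (fun e => hxy e.symm)
              | exact absurd ((t y).2 (by simp [hM1])) hxy
              | exact absurd ((t x).1 (by simp [hM1])) (fun e => hxy e.symm)
              | exact absurd ((t y).1 (by simp [hM1])) hxy
              | exact absurd ((t x).1 rfl) (fun e => hxy e.symm)
              | exact absurd ((t y).1 rfl) hxy
              | exact absurd ((t x).2 rfl) (fun e => hxy e.symm)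
              | exact absurd ((t y).2 rfl) hxy
          subst hij
          exact Prod.ext rfl (Subtype.ext (mul_left_cancel h'))
        have h12 := Nat.card_le_card_of_injective f hf
        rw [Nat.card_prod, Nat.card_eq_fintype_card, Fintype.card_fin, hZ4] at h12
        have hdvd := Subgroup.card_subgroup_dvd_card H
        have h16 : Nat.card R ∣ 16 := by rw [hRcard, show (16 : ℕ) = 2 ^ 4 by norm_num]; exact Nat.pow_dvd_pow 2 (by omega)
        have hH16 : Nat.card H = 16 := by
          obtain ⟨k, hk, hk'⟩ := (Nat.dvd_prime_pow Nat.prime_two (i := Nat.card H) (m := 4)).1 (hdvd.trans h16)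
          interval_cases k <;> omega
        have hle : Nat.card R ≤ 16 := Nat.le_of_dvd (by norm_num) h16
        intro r
        have : H = ⊤ := Subgroup.eq_top_of_le_card H (by omega)
        have : r ∈ H := by rw [this]; trivial
        exact this
    rcases hirr.1 W (by
      rintro _ ⟨g, hg, rfl⟩ _ ⟨w, hw, rfl⟩
      rw [Matrix.toLin'_apply]
      exact hW ⟨g, hg⟩ w hw) with h | h
    · exact hW0 h
    · exact hW1 h
  refine ⟨z, by show M z = -1; rw [hz, neg_one_smul], fun c hc => ?_, hsign, hsq, hdet, ?_⟩
  · obtain ⟨w, -, hw⟩ := hscal c hc; exact ⟨w, hw⟩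
  · rw [hRcard, show (64 : ℕ) = 2 ^ 6 by norm_num]; exact Nat.pow_le_pow_right (by norm_num) (by omega)

end CfsgLib.Maximal.SymplFour
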