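import Cfsg.Agent.Lib.Maximal.SymplFour.Facts
import Cfsg.Agent.Lib.Maximal.SymplFour.Frame
import Cfsg.Agent.Lib.OrthFrame.Main

/-!
The normaliser of a symplectic-type group of order `64` is maximal in `SL₄(p)`: under the Klein correspondence it
is the stabiliser of a frame of six isometric lines.
-/

set_option autoImplicit false
set_option linter.unusedSectionVars false

open scoped Classical

namespace CfsgLib.Maximal.SymplFour

open QuadraticMap CfsgLib.Geometry CfsgLib.Classical Matrix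

variable {F : Type*} [Field F]

local notation "SL4" => Matrix.SpecialLinearGroup (Fin 4) F
local notation "GL4" => Matrix.GeneralLinearGroup (Fin 4) F
local notation "M4" => Matrix (Fin 4) (Fin 4) F
local notation "V6" => (Fin 3 ⊕ Fin 3 → F)
local notation "Q6" => matQuad (plusMat 3 F)

variable [Fintype F]

/-- The normaliser of a symplectic-type group is maximal in `SL₄(p)`. -/
theorem symplecticType_maximal {p : ℕ} (hp : p.Prime) (hcard : Fintype.card F = p) (hp4 : p % 4 = 1)
    {R : Subgroup (Matrix.GeneralLinearGroup (Fin 4) F)} (hR : Cfsg.Geo.IsLinearSymplecticTypeData 2 R) :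
    Cfsg.Geo.IsMaximalIn (Cfsg.Geo.specialLinear (Fin 4) F)
      (Cfsg.Geo.subgroupNormalizer R ⊓ Cfsg.Geo.specialLinear (Fin 4) F) := by
  haveI : Fact (Nat.card F).Prime := ⟨by rw [Nat.card_eq_fintype_card, hcard]; exact hp⟩
  have h2 : (2 : F) ≠ 0 := Ring.two_ne_zero fun h => by
    have := FiniteField.even_card_of_char_two h
    omega
  haveI : Finite GL4 := Finite.of_injective (fun g : GL4 => (g : M4)) fun a b h => Units.ext h
  haveI := Fintype.ofFinite R
  obtain ⟨ι, hι⟩ : ∃ ι : F, ι * ι = -1 :=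
    let ⟨ι, h⟩ := (FiniteField.isSquare_neg_one_iff (F := F)).2 (by omega); ⟨ι, h.symm⟩
  obtain ⟨z, hT⟩ := facts h2 hι hR
  obtain ⟨hz, hscal, hsign, hsq, hdet, h64⟩ := hT
  set M : R → M4 := fun r => ((r : GL4) : M4) with hM
  have hMinj : Function.Injective M := fun a b h => Subtype.ext (Units.ext h)
  have hMmul : ∀ a b, M (a * b) = M a * M b := fun a b => rfl
  have hM1 : M 1 = 1 := rfl
  -- the image in the six-space
  let toSL : R →* SL4 :=
    { toFun := fun r => ⟨M r, hdet r⟩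
      map_one' := rfl
      map_mul' := fun a b => rfl }
  set ψ : R →* orth Q6 := toO6.comp toSL with hψ
  have hker : ∀ r, ψ r = 1 → M r = 1 ∨ M r = -1 := fun r hr => by
    obtain ⟨c, hc, hm⟩ := klein_ker (g := toSL r) hr
    change M r = _ at hm
    rw [← Matrix.smul_one_eq_diagonal] at hm
    rcases mul_self_eq_one_iff.1 hc with rfl | rfl
    · exact Or.inl (by rw [hm, one_smul])
    · exact Or.inr (by rw [hm, neg_one_smul])
  have hker' : ∀ g : SL4, (g.1 = 1 ∨ g.1 = -1) → toO6 g = 1 := by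
    intro g hg
    refine MonoidHom.mem_ker.1 ((EmbeddedAct.mem_ker klein_embeddedAct g).2 fun v => ?_)
    show g.1 * kleinEmb F v * g.1ᵀ = _
    rcases hg with h | h <;> rw [h] <;> simp
  have hψz : ψ z = 1 := hker' _ (Or.inr hz)
  have hψinv : ∀ r : R, ψ r * ψ r = 1 := by
    intro r
    rw [← map_mul]
    obtain ⟨c, hc, hrr⟩ := hsq r
    refine hker' _ ?_
    show M (r * r) = 1 ∨ M (r * r) = -1
    rw [hMmul, hrr]
    rcases mul_self_eq_one_iff.1 hc with rfl | rfl
    · exact Or.inl (one_smul _ _)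
    · exact Or.inr (neg_one_smul _ _)
  have hψcomm : ∀ r s : R, ψ r * ψ s = ψ s * ψ r := by
    intro r s
    rw [← map_mul, ← map_mul]
    rcases hsign r s with h | h
    · rw [show r * s = s * r from hMinj (by rw [hMmul, hMmul, h])]
    · rw [show r * s = z * (s * r) from hMinj (by rw [hMmul, hMmul, hMmul, show M z = -1 from hz, neg_one_mul]; exact h),
        map_mul, hψz, one_mul]
  have hfib : ∀ r s : R, ψ r = ψ s → s = r ∨ s = z * r := by
    intro r s h
    have h1 : ψ (s * r⁻¹) = 1 := by rw [map_mul, map_inv, h, mul_inv_cancel]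
    rcases hker _ h1 with h3 | h3
    · exact Or.inl (by
        have : s * r⁻¹ = 1 := hMinj (h3.trans hM1.symm)
        rwa [mul_inv_eq_one] at this)
    · exact Or.inr (by
        have : s * r⁻¹ = z := hMinj (h3.trans hz.symm)
        rwa [mul_inv_eq_iff_eq_mul] at this)
  have hQ := nondeg_plus_three (F := F)
  have hψrange : ∀ r, ψ r ∈ commutator (orth Q6) := fun r => by
    rw [← range_toO6 h2]; exact ⟨toSL r, rfl⟩
  obtain ⟨b, sg, hsg, heven, hall, hsep, horth, hbQ, hclass⟩ :=
    six_basis h2 h64 ψ z hfib hψinv hψcomm hψrange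
  have hbv : ∀ i, ∀ r : R, (ψ r : V6 ≃ₗ[F] V6) (b i) = b i ∨ (ψ r : V6 ≃ₗ[F] V6) (b i) = -(b i) := fun i r => by
    rw [hsg]; split_ifs <;> simp
  choose tt htt hQt using hclass
  let v : Fin 6 → V6 := fun i => (tt i)⁻¹ • b i
  have hvQ : ∀ i, Q6 (v i) = Q6 (b 0) := fun i => by
    show Q6 ((tt i)⁻¹ • b i) = _
    rw [CfsgLib.Geometry.map_smul', hQt]
    have := htt i
    field_simp
  have hv0 : ∀ i, v i ≠ 0 := fun i h => b.ne_zero i (by
    have := congrArg (fun w => tt i • w) h
    simpa [v, smul_smul, mul_inv_cancel₀ (htt i)] using this)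
  let D : Fin 6 → Submodule F V6 := fun i => Submodule.span F {v i}
  have hDb : ∀ i, D i = Submodule.span F {b i} := fun i => by
    show Submodule.span F {(tt i)⁻¹ • b i} = _
    exact Submodule.span_singleton_smul_eq (Ne.isUnit (inv_ne_zero (htt i))) _
  have hD : Cfsg.Geo.IsOrthogonalMDecomposition (⇑Q6) 1 D := by
    refine ⟨⟨⟨by norm_num, one_pos, fun i => finrank_span_singleton (hv0 i), ?_, ?_⟩, ?_, ?_⟩, ?_⟩
    · rw [show D = fun i => Submodule.span F {b i} from funext hDb]
      exact b.linearIndependent.iSupIndep_span_singleton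
    · rw [show iSup D = ⨆ i, Submodule.span F {b i} from iSup_congr hDb, ← Submodule.span_range_eq_iSup, b.span_eq]
    · intro i w hw hw0
      obtain ⟨c, rfl⟩ := Submodule.mem_span_singleton.1 hw
      have hc : c ≠ 0 := fun h => hw0 (by rw [h, zero_smul])
      have hne : 2 * Q6 (v i) ≠ 0 := mul_ne_zero h2 (by rw [hvQ]; exact hbQ 0)
      exact ⟨⟨v i, Submodule.mem_span_singleton_self _, by
          rw [polar_smul_right', polar_self']; exact mul_ne_zero hc hne⟩,
        ⟨v i, Submodule.mem_span_singleton_self _, by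
          rw [polar_smul_left', polar_self']; exact mul_ne_zero hc hne⟩⟩
    · intro i j hij a ha c hc
      rw [hDb] at ha hc
      obtain ⟨x, rfl⟩ := Submodule.mem_span_singleton.1 ha
      obtain ⟨y, rfl⟩ := Submodule.mem_span_singleton.1 hc
      rw [polar_smul_left', polar_smul_right', horth i j hij, mul_zero, mul_zero]
    · intro i j
      refine ⟨(LinearEquiv.toSpanNonzeroSingleton F V6 (v i) (hv0 i)).symm.trans
        (LinearEquiv.toSpanNonzeroSingleton F V6 (v j) (hv0 j)), fun w => ?_⟩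
      obtain ⟨c, rfl⟩ := (LinearEquiv.toSpanNonzeroSingleton F V6 (v i) (hv0 i)).surjective w
      rw [LinearEquiv.trans_apply, LinearEquiv.symm_apply_apply]
      show Q6 (c • v j) = Q6 (c • v i)
      simp only [CfsgLib.Geometry.map_smul', hvQ]
  refine CfsgLib.Sp4Odd.isMaximalIn_pullback (j := (Matrix.SpecialLinearGroup.toGL : SL4 →* GL4))
    (ψ := (orthToGL Q6).comp toO6) (T := Cfsg.Geo.decompositionStabilizer D) ?_ ?_ (fun x => ?_)
    (CfsgLib.OrthFrame.frame_maximal_six h2 hQ (by simp) hD)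
  · ext g
    constructor
    · rintro ⟨x, rfl⟩
      exact Units.ext (by show (Matrix.SpecialLinearGroup.toGL x : M4).det = 1; exact x.2)
    · intro hg
      exact ⟨⟨(g : M4), by have := congrArg Units.val hg; simpa using this⟩, Units.ext rfl⟩
  · rw [MonoidHom.range_comp, range_toO6 h2, omegaGL_eq_map]
  obtain ⟨Φ, hΦ⟩ : ∃ Φ : SL4 →* orth Q6, Φ = toO6 := ⟨_, rfl⟩
  rw [MonoidHom.comp_apply, ← hΦ]
  have hψΦ : ∀ r, ψ r = Φ (toSL r) := fun r => by rw [hΦ]; rfl
  have hΦker : ∀ g, Φ g = 1 → ∃ c : F, c * c = 1 ∧ g.1 = Matrix.diagonal fun _ => c := fun g hg => by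
    rw [hΦ] at hg; exact klein_ker hg
  clear hΦ hψ
  clear_value ψ
  have hlin : Matrix.toLin' ((orthToGL Q6 (Φ x) : Matrix.GeneralLinearGroup _ F) :
      Matrix (Fin 3 ⊕ Fin 3) (Fin 3 ⊕ Fin 3) F) = ((Φ x : V6 ≃ₗ[F] V6) : V6 →ₗ[F] V6) :=
    LinearMap.ext fun w => by rw [Matrix.toLin'_apply, orthToGL_mulVec]; rfl
  have hconjψ : ∀ r s : R, (s : GL4) = Matrix.SpecialLinearGroup.toGL x * r * (Matrix.SpecialLinearGroup.toGL x)⁻¹ →
      ψ s = Φ x * ψ r * (Φ x)⁻¹ := by
    intro r s h
    rw [hψΦ, hψΦ, ← map_mul, ← map_inv, ← map_mul]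
    congr 1
    apply Matrix.SpecialLinearGroup.toGL_injective
    rw [map_mul, map_mul, map_inv]
    have e : ∀ r : R, Matrix.SpecialLinearGroup.toGL (toSL r) = (r : GL4) := fun r => Units.ext rfl
    rw [e, e, h]
  constructor
  · intro hn
    obtain ⟨π, hπ⟩ := perm_of_conj h2 hsg hsep (Φ x) fun s => by
      refine ⟨⟨(Matrix.SpecialLinearGroup.toGL x)⁻¹ * (s : GL4) * Matrix.SpecialLinearGroup.toGL x, ?_⟩, hconjψ _ _ ?_⟩
      · have := (Subgroup.mem_set_normalizer_iff.1 (inv_mem hn) (s : GL4)).1 s.2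
        rwa [inv_inv] at this
      · show (s : GL4) = _ * (_ * (s : GL4) * _) * _
        group
    refine ⟨π, fun i => ?_⟩
    simp only [hDb]
    rw [hlin, Submodule.map_span, Set.image_singleton]
    obtain ⟨c, hc⟩ := hπ i
    rw [LinearEquiv.coe_coe, hc]
    exact Submodule.span_singleton_smul_eq (Ne.isUnit fun e => b.ne_zero i
      ((Φ x : V6 ≃ₗ[F] V6).map_eq_zero_iff.1 (by rw [hc, e, zero_smul]))) _
  · rintro ⟨π, hπ⟩
    have hmove : ∀ i, ∃ c : F, (Φ x : V6 ≃ₗ[F] V6) (b i) = c • b (π i) := by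
      intro i
      have : (Φ x : V6 ≃ₗ[F] V6) (b i) ∈ Submodule.span F {b (π i)} := by
        rw [← hDb, ← hπ i, hDb, hlin]
        exact ⟨b i, Submodule.mem_span_singleton_self _, rfl⟩
      obtain ⟨c, hc⟩ := Submodule.mem_span_singleton.1 this
      exact ⟨c, hc.symm⟩
    have hgR : ∀ r ∈ R, Matrix.SpecialLinearGroup.toGL x * r * (Matrix.SpecialLinearGroup.toGL x)⁻¹ ∈ R := by
      intro r hr
      obtain ⟨s, hs⟩ := hall ((sg ⟨r, hr⟩).image π) (by
        rw [Finset.card_image_of_injective _ π.injective]; exact heven _)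
      have hψs := conj_of_perm hsg (Φ x) hmove hs
      have h1 : Φ ((toSL s)⁻¹ * (x * toSL ⟨r, hr⟩ * x⁻¹)) = 1 := by
        rw [map_mul, map_inv, map_mul, map_mul, map_inv, ← hψΦ, ← hψΦ, hψs, inv_mul_cancel]
      obtain ⟨c, hc, hm⟩ := hΦker _ h1
      rw [← Matrix.smul_one_eq_diagonal] at hm
      obtain ⟨z', hz'⟩ := hscal c (by rw [show c ^ 4 = (c * c) * (c * c) by ring, hc, one_mul])
      have hval : Matrix.SpecialLinearGroup.toGL (x * toSL ⟨r, hr⟩ * x⁻¹) = Matrix.SpecialLinearGroup.toGL x * r * (Matrix.SpecialLinearGroup.toGL x)⁻¹ := by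
        rw [map_mul, map_mul, map_inv]
        congr 2
        exact Units.ext rfl
      rw [← hval, show x * toSL ⟨r, hr⟩ * x⁻¹ = toSL s * ((toSL s)⁻¹ * (x * toSL ⟨r, hr⟩ * x⁻¹)) by group,
        show toSL s * ((toSL s)⁻¹ * (x * toSL ⟨r, hr⟩ * x⁻¹)) = toSL (s * z') by
          rw [map_mul]
          congr 1
          exact Subtype.ext (hm.trans hz'.symm)]
      convert (s * z').2 using 1
      exact Units.ext rfl
    refine Subgroup.mem_set_normalizer_iff.2 fun r => ⟨hgR r, fun hr => ?_⟩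
    let c : R → R := fun s => ⟨Matrix.SpecialLinearGroup.toGL x * s * (Matrix.SpecialLinearGroup.toGL x)⁻¹, hgR s s.2⟩
    obtain ⟨s, hs⟩ := (Finite.injective_iff_surjective.1 (show Function.Injective c from fun a a' h =>
      Subtype.ext (by simpa [c] using congrArg Subtype.val h))) ⟨_, hr⟩
    have : (s : GL4) = r := by simpa [c] using congrArg Subtype.val hs
    exact this ▸ s.2

end CfsgLib.Maximal.SymplFour
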